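import Groth.Agent.Lib.Lead.Colim.Shift
import Mathlib.Algebra.Category.Grp.FilteredColimits
import Mathlib.CategoryTheory.Limits.Types.Filtered

/-! # From the elementwise criterion to `PreservesColimit (Ext^q(Z, -))`. -/

universe v u
open CategoryTheory Limits Abelian

namespace Groth.Agent.LD.Colim

variable {A : Type v} [Category.{u} A] [Abelian A] [HasExt.{u} A]
variable {I : Type u} [SmallCategory I] [IsFiltered I] [HasColimitsOfShape I A]

lemma extFunctorObj_map_apply (Z : A) (q : ℕ) {X Y : A} (f : X ⟶ Y) (x : Ext Z X q) :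
    (extFunctorObj Z q).map f x = pc f x := rfl

theorem preservesColimit_ext (Z : A) (q : ℕ) (D : I ⥤ A) (hs : SurjP Z q D) (hi : InjP Z q D) :
    PreservesColimit D (extFunctorObj Z q) := by
  apply preservesColimit_of_preserves_colimit_cocone (colimit.isColimit D)
  haveI : ReflectsColimit (D ⋙ extFunctorObj Z q) (forget AddCommGrpCat.{u}) :=
    reflectsColimit_of_reflectsIsomorphisms _ _
  apply isColimitOfReflects (forget AddCommGrpCat.{u})
  apply Types.FilteredColimit.isColimitOf'
  · intro x
    obtain ⟨i, y, hy⟩ := hs x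
    exact ⟨i, y, hy.symm⟩
  · intro i x y h
    let x' : Ext Z (D.obj i) q := x
    let y' : Ext Z (D.obj i) q := y
    have h0 : pc (colimit.ι D i) x' = pc (colimit.ι D i) y' := h
    have h' : pc (colimit.ι D i) (x' - y') = 0 := by
      rw [pc_sub, sub_eq_zero]
      exact h0
    obtain ⟨j, g, hg⟩ := hi i (x' - y') h'
    refine ⟨j, g, ?_⟩
    rw [pc_sub, sub_eq_zero] at hg
    exact hg

end Groth.Agent.LD.Colim
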