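import Groth.Agent.Lib.Lead.Colim.CechAcyclic
import Groth.Agent.Lib.Lead.Colim.Preserve

/-! # Cohomology over "quasi-compact" objects commutes with filtered colimits (sites). -/

universe u
open CategoryTheory Limits Opposite Abelian

namespace Groth.Agent.LD.Colim
open Groth.Agent.LD.CH

variable {C : Type u} [SmallCategory C] [HasPullbacks C] {J : GrothendieckTopology C}
variable {B : Set C} {Cov : ∀ (U : C) (ι : Type u), (ι → Over U) → Prop} (hB : Basis J B Cov)
variable {I : Type u} [SmallCategory I] [IsFiltered I]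

include hB in
theorem surjP_zero {U : C} (hU : U ∈ B) (D : I ⥤ Sheaf J AddCommGrpCat.{u}) :
    SurjP (SC.ZU J U) 0 D := by
  intro x
  obtain ⟨φ, rfl⟩ := (Ext.mk₀_bijective _ _).surjective x
  obtain ⟨i, t, ht⟩ := sec_surj hB (colimit.isColimit D) hU (SC.homEquiv U _ φ)
  refine ⟨i, Ext.mk₀ ((SC.homEquiv U (D.obj i)).symm t), ?_⟩
  unfold pc
  rw [Ext.mk₀_comp_mk₀]
  congr 1
  apply (SC.homEquiv U _).injective
  rw [SC.homEquiv_comp, Equiv.apply_symm_apply]
  exact ht

include hB in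
theorem injP_zero {U : C} (hU : U ∈ B) (D : I ⥤ Sheaf J AddCommGrpCat.{u}) :
    InjP (SC.ZU J U) 0 D := by
  intro i y hy
  obtain ⟨ψ, rfl⟩ := (Ext.mk₀_bijective _ _).surjective y
  unfold pc at hy ⊢
  rw [Ext.mk₀_comp_mk₀, Ext.mk₀_eq_zero_iff] at hy
  have h1 : (colimit.ι D i).hom.app (op U) (SC.homEquiv U _ ψ) = 0 := by
    rw [← SC.homEquiv_comp, hy]
    exact (SC.homAddEquiv U _).map_zero
  obtain ⟨j, g, hg⟩ := sec_inj hB (colimit.isColimit D) hU i (SC.homEquiv U _ ψ) h1
  refine ⟨j, g, ?_⟩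
  rw [Ext.mk₀_comp_mk₀, Ext.mk₀_eq_zero_iff]
  apply (SC.homEquiv U _).injective
  rw [SC.homEquiv_comp, hg]
  exact ((SC.homAddEquiv U _).map_zero).symm

include hB in
theorem surjP_injP {U : C} (hU : U ∈ B) (q : ℕ) :
    ∀ D : I ⥤ Sheaf J AddCommGrpCat.{u}, SurjP (SC.ZU J U) q D ∧ InjP (SC.ZU J U) q D := by
  induction q with
  | zero => exact fun D => ⟨surjP_zero hB hU D, injP_zero hB hU D⟩
  | succ q ih =>
    intro D
    have hS := embSC_shortExact D
    have h1 : ∀ i, Subsingleton (Ext (SC.ZU J U) ((embSC D).X₂.obj i) (q + 1)) := fun i =>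
      haveI : Injective ((embSC D).X₂.obj i) := inferInstanceAs (Injective ((emb D).obj i))
      subsingleton_ext_injectiveS _ _ q
    have h2 : Subsingleton (Ext (SC.ZU J U) (colimit (embSC D).X₂) (q + 1)) := by
      refine subsingleton_ext_colimit hB (colimit.isColimit (embSC D).X₂) ?_ hU q
      intro i V ι Y _ p
      haveI : Injective ((embSC D).X₂.obj i) := inferInstanceAs (Injective ((emb D).obj i))
      exact isZero_cechO_of_injective Y _ p
    exact ⟨shift_surj (embSC D) hS q h2 (ih _).1, shift_inj (embSC D) hS q h1 (ih _).1 (ih _).2⟩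

include hB in
/-- **`Ext^q(ℤ_U, -)` commutes with filtered colimits for `U ∈ B`.** -/
theorem preservesColimit_extFunctorObj {U : C} (hU : U ∈ B) (q : ℕ)
    (D : I ⥤ Sheaf J AddCommGrpCat.{u}) :
    PreservesColimit D (extFunctorObj (SC.ZU J U) q) :=
  preservesColimit_ext _ q D (surjP_injP hB hU q D).1 (surjP_injP hB hU q D).2

end Groth.Agent.LD.Colim
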