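import Groth.Agent.Lib.Lead.Colim.Main
import Mathlib.Topology.Spectral.Prespectral
import Mathlib.Topology.QuasiSeparated
import Mathlib.Order.ConditionallyCompleteLattice.Finset

/-! # Cohomology over quasi-compact quasi-separated opens commutes with filtered colimits. -/

universe u
open CategoryTheory Limits Opposite Abelian TopologicalSpace

namespace Groth.Agent.LD.Colim

variable {X : TopCat.{u}}

/-- finite nonempty intersections of compact opens inside a quasi-separated set are compact. -/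
lemma isCompact_iInf_of_isQuasiSeparated {s : Set X} (hs : IsQuasiSeparated s)
    {κ : Type*} [Finite κ] [Nonempty κ] (W : κ → Opens X)
    (hW : ∀ k, IsCompact (W k : Set X)) (hWs : ∀ k, (W k : Set X) ⊆ s) :
    IsCompact ((⨅ k, W k : Opens X) : Set X) := by
  classical
  haveI := Fintype.ofFinite κ
  rw [← Finset.inf'_univ_eq_ciInf]
  have key : IsCompact ((Finset.univ.inf' Finset.univ_nonempty W : Opens X) : Set X) ∧
      ((Finset.univ.inf' Finset.univ_nonempty W : Opens X) : Set X) ⊆ s := by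
    refine Finset.inf'_induction (p := fun V : Opens X => IsCompact (V : Set X) ∧ (V : Set X) ⊆ s)
      Finset.univ_nonempty W ?_ ?_
    · rintro V₁ ⟨h1, h1'⟩ V₂ ⟨h2, h2'⟩
      exact ⟨hs _ _ h1' V₁.2 h1 h2' V₂.2 h2, Set.inter_subset_left.trans h1'⟩
    · intro k _
      exact ⟨hW k, hWs k⟩
  exact key.1

/-- in the slice of a poset of opens, the underlying open of a product is the intersection. -/
lemma prodO_left_eq {U : Opens X} {κ : Type*} [Nonempty κ] (Y : κ → Over U) [HasProduct Y] :
    (∏ᶜ Y).left = ⨅ k, (Y k).left := by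
  apply le_antisymm
  · exact le_iInf fun k => (Pi.π Y k).left.le
  · have hU : (⨅ k, (Y k).left) ≤ U :=
      (iInf_le _ (Classical.arbitrary κ)).trans (Y (Classical.arbitrary κ)).hom.le
    let P : Over U := Over.mk (homOfLE hU)
    let l : P ⟶ ∏ᶜ Y := Pi.lift fun k => Over.homMk (homOfLE (iInf_le _ k)) (Subsingleton.elim _ _)
    exact l.left.le

/-- compact quasi-separated opens. -/
def Bqc (X : TopCat.{u}) : Set (Opens X) :=
  {W | IsCompact (W : Set X) ∧ IsQuasiSeparated (W : Set X)}

/-- finite covers by compact quasi-separated opens. -/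
def Covqc (X : TopCat.{u}) (U : Opens X) (ι : Type u) (Y : ι → Over U) : Prop :=
  Finite ι ∧ U ∈ Bqc X ∧ (∀ i, (Y i).left ∈ Bqc X) ∧ U ≤ ⨆ i, (Y i).left

theorem basis_qc [PrespectralSpace X] :
    Basis (Opens.grothendieckTopology X) (Bqc X) (Covqc X) where
  h1 := by
    rintro U ι Y ⟨hfin, hU, hY, hcov⟩
    refine ⟨hfin, hU, ?_, ?_⟩
    · intro x hx
      obtain ⟨i, hi⟩ := Opens.mem_iSup.mp (hcov hx)
      exact ⟨(Y i).left, (Y i).hom, Sieve.ofArrows_mk _ _ i, hi⟩
    · intro p a
      have e : (∏ᶜ fun k => Y (a k)).left = ⨅ k, (Y (a k)).left := prodO_left_eq _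
      refine ⟨?_, (hY (a 0)).2.of_subset ?_⟩
      · rw [e]
        exact isCompact_iInf_of_isQuasiSeparated hU.2 _ (fun k => (hY (a k)).1)
          (fun k => (Y (a k)).hom.le)
      · rw [e]
        exact iInf_le (fun k => (Y (a k)).left) 0
  h2 := by
    rintro U ⟨hUc, hUq⟩ T hT
    -- for each point of `U` choose a compact open neighbourhood in the sieve
    have h1 : ∀ x : U, ∃ W : Opens X, IsCompact (W : Set X) ∧ x.1 ∈ W ∧ ∃ h : W ≤ U,
        T.arrows (homOfLE h) := by
      intro x
      obtain ⟨V, f, hf, hxV⟩ := hT x.1 x.2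
      obtain ⟨W, ⟨hWo, hWc⟩, hxW, hWV⟩ :=
        (PrespectralSpace.isTopologicalBasis (X := X)).exists_subset_of_mem_open hxV V.2
      refine ⟨⟨W, hWo⟩, hWc, hxW, hWV.trans f.le, ?_⟩
      have := T.downward_closed hf (homOfLE (show (⟨W, hWo⟩ : Opens X) ≤ V from hWV))
      exact this
    choose W hWc hxW hWU hWT using h1
    obtain ⟨t, ht⟩ := hUc.elim_finite_subcover (fun x : U => (W x : Set X)) (fun x => (W x).2)
      (fun x hx => Set.mem_iUnion.mpr ⟨⟨x, hx⟩, hxW ⟨x, hx⟩⟩)
    refine ⟨{x // x ∈ t}, fun x => Over.mk (homOfLE (hWU x.1)), ⟨inferInstance, ⟨hUc, hUq⟩, ?_, ?_⟩, ?_⟩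
    · intro x
      exact ⟨hWc x.1, hUq.of_subset (hWU x.1)⟩
    · intro y hy
      obtain ⟨x, hx⟩ := Set.mem_iUnion.mp (ht hy)
      obtain ⟨hxt, hyx⟩ := Set.mem_iUnion.mp hx
      exact Opens.mem_iSup.mpr ⟨⟨x, hxt⟩, hyx⟩
    · intro x
      exact hWT x.1

end Groth.Agent.LD.Colim

namespace Groth.Agent.LD.Colim

variable {X : TopCat.{u}}

/-- **cohomology over a quasi-compact quasi-separated open of a space with a basis of
quasi-compact opens commutes with filtered colimits.** -/
theorem preservesColimit_H_of_qcqs [PrespectralSpace X] (U : Opens X)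
    (hUc : IsCompact (U : Set X)) (hUq : IsQuasiSeparated (U : Set X)) (q : ℕ)
    {I : Type u} [SmallCategory I] [IsFiltered I] (D : I ⥤ CohTop.Ab X) :
    PreservesColimit D
      ((Sheaf.cohomologyPresheafFunctor (Opens.grothendieckTopology X) q).flip.obj (op U) :
        CohTop.Ab X ⥤ AddCommGrpCat.{u}) :=
  preservesColimit_extFunctorObj basis_qc ⟨hUc, hUq⟩ q D

end Groth.Agent.LD.Colim

namespace Groth.Agent.LD.Colim

variable {X : TopCat.{u}}

/-- sections of a filtered colimit over a quasi-compact quasi-separated open come from a stage. -/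
theorem top_sec_surj [PrespectralSpace X] (U : Opens X)
    (hUc : IsCompact (U : Set X)) (hUq : IsQuasiSeparated (U : Set X))
    {I : Type u} [SmallCategory I] [IsFiltered I] {D : I ⥤ CohTop.Ab X} {c : Cocone D}
    (hc : IsColimit c) (x : c.pt.obj.obj (op U)) :
    ∃ (i : I) (s : (D.obj i).obj.obj (op U)), (c.ι.app i).hom.app (op U) s = x :=
  sec_surj basis_qc hc ⟨hUc, hUq⟩ x

/-- a filtered colimit of flasque sheaves on a Noetherian space is flasque. -/
theorem isFlasque_colimit [NoetherianSpace X] {I : Type u} [SmallCategory I] [IsFiltered I]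
    (D : I ⥤ CohTop.Ab X) (hD : ∀ i : I, TopCat.Sheaf.IsFlasque (D.obj i)) :
    TopCat.Sheaf.IsFlasque (colimit D : CohTop.Ab X) := by
  refine ⟨fun {U V} f => ?_⟩
  rw [AddCommGrpCat.epi_iff_surjective]
  intro t
  obtain ⟨i, s, hs⟩ := top_sec_surj V.unop (NoetherianSpace.isCompact _)
    (IsQuasiSeparated.of_quasiSeparatedSpace _) (colimit.isColimit D) t
  haveI := hD i
  have hepi : Epi ((D.obj i).obj.map f) := TopCat.Presheaf.IsFlasque.epi f
  rw [AddCommGrpCat.epi_iff_surjective] at hepi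
  obtain ⟨s', hs'⟩ := hepi s
  refine ⟨(colimit.ι D i).hom.app U s', ?_⟩
  have hnat := NatTrans.naturality_apply (colimit.ι D i).hom f s'
  rw [← hnat, hs']
  exact hs

end Groth.Agent.LD.Colim
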