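import Mathlib

/-! # Sheafification of a presheaf-valued functor preserves a colimit as soon as the functor
preserves it on a covering family of every object. -/

universe u
open CategoryTheory Limits Opposite

namespace Groth.Agent.LD.Colim

variable {D : Type u} [SmallCategory D] (K : GrothendieckTopology D)

/-- a morphism of presheaves of abelian groups which is bijective on a covering family of every
object is inverted by sheafification. -/
lemma isIso_sheafify_of_cover {P Q : Dᵒᵖ ⥤ AddCommGrpCat.{u}} (θ : P ⟶ Q)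
    (h : ∀ V : D, ∃ (κ : Type u) (Y : κ → D) (g : ∀ k, Y k ⟶ V), Sieve.ofArrows Y g ∈ K V ∧
      ∀ k, IsIso (θ.app (op (Y k)))) :
    IsIso ((presheafToSheaf K AddCommGrpCat.{u}).map θ) := by
  rw [← GrothendieckTopology.W_iff, GrothendieckTopology.W_iff_isLocallyBijective]
  constructor
  · refine ⟨fun {X} x y hxy => ?_⟩
    obtain ⟨V⟩ := X
    obtain ⟨κ, Yc, g, hcov, hiso⟩ := h V
    refine K.superset_covering ?_ hcov
    rw [Sieve.ofArrows, Sieve.generate_le_iff]
    intro W f hf
    obtain ⟨k⟩ := hf
    change P.map (g k).op x = P.map (g k).op y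
    haveI := hiso k
    have hinj : Function.Injective (θ.app (op (Yc k))) :=
      ((ConcreteCategory.isIso_iff_bijective _).1 inferInstance).1
    apply hinj
    have h1 := NatTrans.naturality_apply θ (g k).op x
    have h2 := NatTrans.naturality_apply θ (g k).op y
    rw [h1, h2, hxy]
  · refine ⟨fun {V} s => ?_⟩
    obtain ⟨κ, Yc, g, hcov, hiso⟩ := h V
    refine K.superset_covering ?_ hcov
    rw [Sieve.ofArrows, Sieve.generate_le_iff]
    intro W f hf
    obtain ⟨k⟩ := hf
    haveI := hiso k
    have hsurj : Function.Surjective (θ.app (op (Yc k))) :=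
      ((ConcreteCategory.isIso_iff_bijective _).1 inferInstance).2
    obtain ⟨t, ht⟩ := hsurj (Q.map (g k).op s)
    exact ⟨t, ht⟩

/-- **sheafification of a presheaf-valued functor preserves a colimit as soon as the functor
preserves it on a covering family of every object.** -/
theorem preservesColimit_comp_sheafify {A : Type*} [Category A] {ι : Type u} [SmallCategory ι]
    (F : ι ⥤ A) (Q : A ⥤ (Dᵒᵖ ⥤ AddCommGrpCat.{u}))
    (h : ∀ V : D, ∃ (κ : Type u) (Y : κ → D) (g : ∀ k, Y k ⟶ V), Sieve.ofArrows Y g ∈ K V ∧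
      ∀ k, PreservesColimit F (Q ⋙ (evaluation Dᵒᵖ AddCommGrpCat.{u}).obj (op (Y k)))) :
    PreservesColimit F (Q ⋙ presheafToSheaf K AddCommGrpCat.{u}) := by
  refine ⟨fun {c} hc => ?_⟩
  let P := F ⋙ Q
  let θ : colimit P ⟶ Q.obj c.pt := colimit.desc P (Q.mapCocone c)
  let m : colimit.cocone P ⟶ Q.mapCocone c :=
    { hom := θ
      w := fun i => colimit.ι_desc (Q.mapCocone c) i }
  have hθ : IsIso ((presheafToSheaf K AddCommGrpCat.{u}).map θ) := by
    apply isIso_sheafify_of_cover K θ
    intro V
    obtain ⟨κ, Y, g, hcov, hp⟩ := h V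
    refine ⟨κ, Y, g, hcov, fun k => ?_⟩
    haveI := hp k
    let ev := (evaluation Dᵒᵖ AddCommGrpCat.{u}).obj (op (Y k))
    have h1 : IsColimit (ev.mapCocone (colimit.cocone P)) :=
      isColimitOfPreserves ev (colimit.isColimit P)
    have h2 : IsColimit (ev.mapCocone (Q.mapCocone c)) :=
      isColimitOfPreserves (Q ⋙ ev) hc
    haveI : IsIso ((Cocone.functoriality P ev).map m) := IsColimit.hom_isIso h1 h2 _
    exact (inferInstance : IsIso ((Cocone.forget _).map ((Cocone.functoriality P ev).map m)))
  let a := presheafToSheaf K AddCommGrpCat.{u}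
  have h3 : IsColimit (a.mapCocone (colimit.cocone P)) :=
    isColimitOfPreserves a (colimit.isColimit P)
  let m' : a.mapCocone (colimit.cocone P) ⟶ a.mapCocone (Q.mapCocone c) :=
    (Cocone.functoriality P a).map m
  haveI : IsIso m'.hom := hθ
  haveI : IsIso m' := Cocone.cocone_iso_of_hom_iso m'
  exact ⟨IsColimit.ofIsoColimit h3 (asIso m')⟩

end Groth.Agent.LD.Colim
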