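import Groth.Agent.Lib.Lead.Colim.Filt

/-! # Filtered colimits of abelian sheaves on a site: local description of sections. -/

universe u
open CategoryTheory Limits Opposite

namespace Groth.Agent.LD.Colim

variable {C : Type u} [SmallCategory C] (J : GrothendieckTopology C)
variable {I : Type u} [SmallCategory I] (F : I ⥤ Sheaf J AddCommGrpCat.{u})

/-- every section of the colimit comes locally from a stage. -/
def LocSurj (c : Cocone F) : Prop :=
  ∀ (U : C) (x : c.pt.obj.obj (op U)), ∃ T ∈ J U, ∀ ⦃V : C⦄ (f : V ⟶ U), T.arrows f →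
    ∃ (i : I) (s : (F.obj i).obj.obj (op V)),
      (c.ι.app i).hom.app (op V) s = c.pt.obj.map f.op x

/-- a section of a stage dying in the colimit dies locally at a later stage. -/
def LocInj (c : Cocone F) : Prop :=
  ∀ (U : C) (i : I) (s : (F.obj i).obj.obj (op U)), (c.ι.app i).hom.app (op U) s = 0 →
    ∃ T ∈ J U, ∀ ⦃V : C⦄ (f : V ⟶ U), T.arrows f →
      ∃ (j : I) (g : i ⟶ j), (F.map g).hom.app (op V) ((F.obj i).obj.map f.op s) = 0

/-- the colimit cocone of presheaves. -/
noncomputable abbrev pshCocone : Cocone (F ⋙ sheafToPresheaf J AddCommGrpCat.{u}) :=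
  colimit.cocone _

/-- the standard colimit cocone of sheaves. -/
noncomputable abbrev c₀ : Cocone F := Sheaf.sheafifyCocone (pshCocone J F)

/-- it is a colimit. -/
noncomputable def hc₀ : IsColimit (c₀ J F) :=
  Sheaf.isColimitSheafifyCocone _ (colimit.isColimit _)

/-- the evaluated presheaf cocone is a colimit of abelian groups. -/
noncomputable def evalIsColimit (V : C) :
    IsColimit (((evaluation Cᵒᵖ AddCommGrpCat.{u}).obj (op V)).mapCocone (pshCocone J F)) :=
  isColimitOfPreserves _ (colimit.isColimit _)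

lemma c₀_ι_app (i : I) (V : C) (s : (F.obj i).obj.obj (op V)) :
    ((c₀ J F).ι.app i).hom.app (op V) s =
      (toSheafify J (pshCocone J F).pt).app (op V) ((pshCocone J F).ι.app i |>.app (op V) s) := by
  rw [Sheaf.sheafifyCocone_ι_app_val]
  rfl

variable [IsFiltered I]

lemma locSurj_c₀ : LocSurj J F (c₀ J F) := by
  intro U x
  refine ⟨_, Presheaf.imageSieve_mem J (toSheafify J (pshCocone J F).pt) (U := op U) x, ?_⟩
  rintro V f ⟨t, ht⟩
  obtain ⟨i, s, hs⟩ := ab_exists_rep _ (evalIsColimit J F V) t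
  refine ⟨i, s, ?_⟩
  rw [c₀_ι_app]
  exact (congrArg (fun z => (toSheafify J (pshCocone J F).pt).app (op V) z) hs).trans ht

lemma locInj_c₀ : LocInj J F (c₀ J F) := by
  intro U i s hs
  rw [c₀_ι_app] at hs
  have h0 : (toSheafify J (pshCocone J F).pt).app (op U)
      ((pshCocone J F).ι.app i |>.app (op U) s) =
      (toSheafify J (pshCocone J F).pt).app (op U) 0 := hs.trans (map_zero _).symm
  refine ⟨_, Presheaf.equalizerSieve_mem J (toSheafify J (pshCocone J F).pt) (X := op U) _ _ h0, ?_⟩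
  intro V f hf
  change (pshCocone J F).pt.map f.op _ = (pshCocone J F).pt.map f.op 0 at hf
  rw [map_zero] at hf
  have hnat := NatTrans.naturality_apply ((pshCocone J F).ι.app i) f.op s
  have h1 : ((pshCocone J F).ι.app i).app (op V) ((F.obj i).obj.map f.op s) = 0 :=
    hnat.trans hf
  exact ab_exists_map_eq_zero _ (evalIsColimit J F V) ((F.obj i).obj.map f.op s) h1

variable {J F}

lemma locSurj_of_isColimit {c : Cocone F} (hc : IsColimit c) : LocSurj J F c := by
  let e : (c₀ J F).pt ≅ c.pt := (hc₀ J F).coconePointUniqueUpToIso hc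
  have he : ∀ i, (c₀ J F).ι.app i ≫ e.hom = c.ι.app i := fun i =>
    IsColimit.comp_coconePointUniqueUpToIso_hom _ _ _
  intro U x
  obtain ⟨T, hT, h⟩ := locSurj_c₀ J F U (e.inv.hom.app (op U) x)
  refine ⟨T, hT, fun V f hf => ?_⟩
  obtain ⟨i, s, hs⟩ := h f hf
  refine ⟨i, s, ?_⟩
  rw [← he i]
  change e.hom.hom.app (op V) (((c₀ J F).ι.app i).hom.app (op V) s) = _
  rw [hs]
  have h1 := NatTrans.naturality_apply e.inv.hom f.op x
  rw [← h1]
  change (e.inv ≫ e.hom).hom.app (op V) _ = _
  rw [e.inv_hom_id]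
  rfl

lemma locInj_of_isColimit {c : Cocone F} (hc : IsColimit c) : LocInj J F c := by
  let e : (c₀ J F).pt ≅ c.pt := (hc₀ J F).coconePointUniqueUpToIso hc
  have he : ∀ i, c.ι.app i ≫ e.inv = (c₀ J F).ι.app i := fun i =>
    IsColimit.comp_coconePointUniqueUpToIso_inv _ _ _
  intro U i s hs
  apply locInj_c₀ J F U i s
  rw [← he i]
  change e.inv.hom.app (op U) ((c.ι.app i).hom.app (op U) s) = 0
  rw [hs, map_zero]

end Groth.Agent.LD.Colim
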