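import Groth.Agent.Lib.Lead.Colim.Sections

/-! # A filtered colimit of Čech-acyclic sheaves is Čech-acyclic (finite covers) hence acyclic. -/

universe u
open CategoryTheory Limits Opposite Abelian

namespace Groth.Agent.LD.Colim
open Groth.Agent.LD.CH

variable {C : Type u} [SmallCategory C] [HasPullbacks C] {J : GrothendieckTopology C}
variable {B : Set C} {Cov : ∀ (U : C) (ι : Type u), (ι → Over U) → Prop} (hB : Basis J B Cov)
variable {I : Type u} [SmallCategory I] [IsFiltered I] {F : I ⥤ Sheaf J AddCommGrpCat.{u}}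
  {c : Cocone F} (hc : IsColimit c)

lemma cmap_comp_leg {U : C} {ι : Type u} (Y : ι → Over U) {i j : I} (g : i ⟶ j) :
    cmap Y (F.map g) ≫ cmap Y (leg c j) = cmap Y (leg c i) := by
  have hw : F.map g ≫ leg c j = leg c i := c.w g
  rw [← hw]
  simp only [cmap]
  rw [← Functor.map_comp, ← Functor.map_comp]
  rfl

lemma cmap_comp_leg_apply {U : C} {ι : Type u} (Y : ι → Over U) {i j : I} (g : i ⟶ j) (n : ℕ)
    (w : (K Y (resOver U (F.obj i).obj)).X n) :
    (cmap Y (leg c j)).f n ((cmap Y (F.map g)).f n w) = (cmap Y (leg c i)).f n w := by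
  rw [← ConcreteCategory.comp_apply, ← HomologicalComplex.comp_f, cmap_comp_leg]

lemma cmap_d {G H : Sheaf J AddCommGrpCat.{u}} (φ : G ⟶ H) {U : C} {ι : Type u}
    (Y : ι → Over U) (n : ℕ) (z : (K Y (resOver U G.obj)).X n) :
    (cmap Y φ).f (n+1) ((K Y (resOver U G.obj)).d n (n+1) z) =
      (K Y (resOver U H.obj)).d n (n+1) ((cmap Y φ).f n z) := by
  have h1 := ConcreteCategory.congr_hom ((cmap Y φ).comm n (n+1)) z
  rw [ConcreteCategory.comp_apply, ConcreteCategory.comp_apply] at h1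
  exact h1.symm

include hB hc in
theorem cech_acyclic_colimit
    (hG : ∀ (i : I) (U : C) (ι : Type u) (Y : ι → Over U), Cov U ι Y → ∀ p : ℕ,
      IsZero ((K Y (resOver U (F.obj i).obj)).homology (p + 1)))
    (U : C) (ι : Type u) (Y : ι → Over U) (hCov : Cov U ι Y) (p : ℕ) :
    IsZero ((K Y (resOver U c.pt.obj)).homology (p + 1)) := by
  obtain ⟨hfin, -, hY, hprod⟩ := hB.h1 U ι Y hCov
  rw [isZero_homology_succ_iff]
  intro x hx
  -- lift `x` to a stage
  have h1 : ∀ a : Fin (p + 2) → ι, ∃ (i : I) (s : (F.obj i).obj.obj (op (∏ᶜ (Y ∘ a)).left)),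
      (leg c i).hom.app (op (∏ᶜ (Y ∘ a)).left) s = coch Y (resOver U c.pt.obj) (p+1) x a :=
    fun a => sec_surj hB hc (hprod (p+1) a) _
  choose i₀ s₀ hs₀ using h1
  obtain ⟨m, hm⟩ := exists_common_obj i₀
  let e : ∀ a, i₀ a ⟶ m := fun a => (hm a).some
  let w : (K Y (resOver U (F.obj m).obj)).X (p+1) :=
    (coch Y (resOver U (F.obj m).obj) (p+1)).symm
      (fun a => (F.map (e a)).hom.app (op (∏ᶜ (Y ∘ a)).left) (s₀ a))
  have hw : (cmap Y (leg c m)).f (p+1) w = x := by
    apply coch_ext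
    intro a
    have e1 := coch_cmap Y (leg c m) (p+1) w a
    refine e1.trans ?_
    have e3 : coch Y (resOver U (F.obj m).obj) (p+1) w a =
        (F.map (e a)).hom.app (op (∏ᶜ (Y ∘ a)).left) (s₀ a) :=
      congrFun ((coch Y (resOver U (F.obj m).obj) (p+1)).apply_symm_apply _) a
    rw [e3, ← hs₀ a]
    have hw' : F.map (e a) ≫ leg c m = leg c (i₀ a) := c.w (e a)
    rw [← hw']
    rfl
  -- `d w` dies in the colimit
  have hdw : (cmap Y (leg c m)).f (p+2) ((K Y (resOver U (F.obj m).obj)).d (p+1) (p+2) w) = 0 := by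
    rw [cmap_d, hw, hx]
  have hcomp : ∀ b : Fin (p + 3) → ι, ∃ (j : I) (g : m ⟶ j),
      (F.map g).hom.app (op (∏ᶜ (Y ∘ b)).left)
        (coch Y (resOver U (F.obj m).obj) (p+2)
          ((K Y (resOver U (F.obj m).obj)).d (p+1) (p+2) w) b) = 0 := by
    intro b
    apply sec_inj hB hc (hprod (p+2) b)
    have e1 := coch_cmap Y (leg c m) (p+2) ((K Y (resOver U (F.obj m).obj)).d (p+1) (p+2) w) b
    rw [hdw, map_zero] at e1
    exact e1.symm
  choose j g hg using hcomp
  obtain ⟨n, g', k, hk⟩ := exists_common m j g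
  let w' := (cmap Y (F.map g')).f (p+1) w
  have hw' : (K Y (resOver U (F.obj n).obj)).d (p+1) (p+2) w' = 0 := by
    rw [← cmap_d]
    apply coch_ext
    intro b
    rw [coch_cmap, map_zero, ← hk b, F.map_comp]
    change (F.map (k b)).hom.app _ ((F.map (g b)).hom.app _ _) = 0
    rw [hg b, map_zero]
  obtain ⟨y', hy'⟩ := (isZero_homology_succ_iff Y (resOver U (F.obj n).obj) p).mp
    (hG n U ι Y hCov p) w' hw'
  refine ⟨(cmap Y (leg c n)).f p y', ?_⟩
  rw [← cmap_d, hy', cmap_comp_leg_apply, hw]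

include hB hc in
/-- a filtered colimit of injective sheaves is acyclic over the members of `B`. -/
theorem subsingleton_ext_colimit
    (hG : ∀ (i : I) (U : C) (ι : Type u) (Y : ι → Over U), Cov U ι Y → ∀ p : ℕ,
      IsZero ((K Y (resOver U (F.obj i).obj)).homology (p + 1)))
    {U : C} (hU : U ∈ B) (p : ℕ) : Subsingleton (Ext (SC.ZU J U) c.pt (p + 1)) := by
  refine cartanS J B Cov ?_ hB.h2 p c.pt ?_ U hU
  · intro U ι Y hCov
    obtain ⟨-, h1, h2, h3⟩ := hB.h1 U ι Y hCov
    exact ⟨h1, h2, h3⟩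
  · intro U ι Y hCov q
    exact cech_acyclic_colimit hB hc hG U ι Y hCov q

end Groth.Agent.LD.Colim
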