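import Groth.Agent.Lib.Lead.Colim.Top
import Mathlib.CategoryTheory.Limits.Constructions.Filtered

/-! # Cohomology over quasi-compact quasi-separated opens commutes with direct sums
(vanishing form). -/

universe u
open CategoryTheory Limits Opposite Abelian TopologicalSpace

namespace Groth.Agent.LD.Colim

section generic
variable {A : Type*} [Category A] [Abelian A] [HasExt.{u} A]

/-- `Ext(Z, -)` vanishes on a finite coproduct of objects on which it vanishes. -/
lemma subsingleton_ext_finite_coproduct (Z : A) (q : ℕ) {ι : Type*} [Finite ι] (g : ι → A)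
    [HasCoproduct g] (h : ∀ i, Subsingleton (Ext Z (g i) q)) : Subsingleton (Ext Z (∐ g) q) := by
  classical
  haveI := Fintype.ofFinite ι
  haveI : HasFiniteBiproducts A := HasFiniteBiproducts.of_hasFiniteCoproducts
  refine ⟨fun a b => ?_⟩
  suffices H : ∀ y : Ext Z (∐ g) q, y = 0 by rw [H a, H b]
  intro y
  let e : ∐ g ≅ ⨁ g := (biproduct.isoCoproduct g).symm
  have hid : 𝟙 (∐ g) = ∑ j, (e.hom ≫ biproduct.π g j) ≫ (biproduct.ι g j ≫ e.inv) := by
    have h1 : 𝟙 (∐ g) = e.hom ≫ 𝟙 (⨁ g) ≫ e.inv := by simp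
    have h2 : 𝟙 (⨁ g) = ∑ j, biproduct.π g j ≫ biproduct.ι g j :=
      (Limits.IsBilimit.total (biproduct.isBilimit g)).symm
    rw [h1, h2, Preadditive.sum_comp, Preadditive.comp_sum]
    simp
  have hy : y = y.comp (Ext.mk₀ (𝟙 (∐ g))) (add_zero q) := by simp
  rw [hy, hid, Ext.mk₀_sum, Ext.comp_sum]
  refine Finset.sum_eq_zero fun j _ => ?_
  rw [← Ext.mk₀_comp_mk₀, ← Ext.comp_assoc_of_third_deg_zero]
  haveI := h j
  rw [Subsingleton.elim (y.comp (Ext.mk₀ (e.hom ≫ biproduct.π g j)) (add_zero q)) 0, Ext.zero_comp]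

end generic

section top
open CoproductsFromFiniteFiltered
variable {X : TopCat.{u}}

/-- **cohomology over a quasi-compact quasi-separated open vanishes on a direct sum of sheaves
on which it vanishes.** -/
theorem subsingleton_ext_coproduct_of_qcqs [PrespectralSpace X] (U : Opens X)
    (hUc : IsCompact (U : Set X)) (hUq : IsQuasiSeparated (U : Set X)) (q : ℕ)
    {α : Type u} (f : α → CohTop.Ab X)
    (h : ∀ a, Subsingleton (Ext (SC.ZU (Opens.grothendieckTopology X) U) (f a) q)) :
    Subsingleton (Ext (SC.ZU (Opens.grothendieckTopology X) U) (∐ f) q) := by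
  classical
  let D : Finset (Discrete α) ⥤ CohTop.Ab X := liftToFinsetObj (Discrete.functor f)
  have hc : IsColimit (finiteSubcoproductsCocone f) := isColimitFiniteSubproductsCocone f
  haveI := preservesColimit_H_of_qcqs U hUc hUq q D
  let Hq : CohTop.Ab X ⥤ AddCommGrpCat.{u} :=
    (Sheaf.cohomologyPresheafFunctor (Opens.grothendieckTopology X) q).flip.obj (op U)
  have hc' : IsColimit (Hq.mapCocone (finiteSubcoproductsCocone f)) := isColimitOfPreserves Hq hc
  refine ⟨fun a b => ?_⟩
  suffices H : ∀ y : Ext (SC.ZU (Opens.grothendieckTopology X) U) (∐ f) q, y = 0 by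
    rw [H a, H b]
  intro y
  obtain ⟨S, yS, hyS⟩ := ab_exists_rep (D ⋙ Hq) hc' y
  haveI : Subsingleton (Ext (SC.ZU (Opens.grothendieckTopology X) U) (D.obj S) q) :=
    subsingleton_ext_finite_coproduct _ q (fun x : {x // x ∈ S} => f x.1.as) (fun x => h x.1.as)
  have h0 : yS = 0 := Subsingleton.elim (α := Ext (SC.ZU (Opens.grothendieckTopology X) U)
    (D.obj S) q) yS 0
  rw [← hyS, h0]
  exact map_zero _

end top

end Groth.Agent.LD.Colim
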