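import Mathlib.CategoryTheory.Abelian.Injective.Basic
import Mathlib.CategoryTheory.Abelian.FunctorCategory
import Mathlib.CategoryTheory.Preadditive.Injective.Basic
import Mathlib.Algebra.Homology.ShortComplex.ShortExact
import Mathlib.Algebra.Homology.ShortComplex.ExactFunctor
import Mathlib.CategoryTheory.Limits.Shapes.Products

/-! # Embedding a diagram into a diagram of injective objects. -/

universe v u
open CategoryTheory Limits

namespace Groth.Agent.LD.Colim

variable {A : Type v} [Category.{u} A] [Abelian A] [EnoughInjectives A]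
  [∀ J : Type u, HasLimitsOfShape (Discrete J) A]
variable {I : Type u} [SmallCategory I] (F : I ⥤ A)

/-- the family of injective objects indexed by arrows out of `i`. -/
noncomputable abbrev embFam (i : I) : (Σ j : I, (i ⟶ j)) → A :=
  fun p => Injective.under (F.obj p.1)

/-- the transition maps of `emb`. -/
noncomputable def embMap {i i' : I} (g : i ⟶ i') : ∏ᶜ (embFam F i) ⟶ ∏ᶜ (embFam F i') :=
  Pi.lift (fun p : Σ j : I, (i' ⟶ j) => Pi.π (embFam F i) ⟨p.1, g ≫ p.2⟩)

lemma embMap_π {i i' : I} (g : i ⟶ i') (j : I) (f : i' ⟶ j) :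
    embMap F g ≫ Pi.π (embFam F i') ⟨j, f⟩ = Pi.π (embFam F i) ⟨j, g ≫ f⟩ :=
  Pi.lift_π _ _

/-- `i ↦ ∏_{i ⟶ j} Inj(F j)`. -/
noncomputable def emb : I ⥤ A where
  obj i := ∏ᶜ (embFam F i)
  map g := embMap F g
  map_id i := by
    apply Pi.hom_ext
    rintro ⟨j, f⟩
    rw [embMap_π, Category.id_comp, Category.id_comp]
  map_comp {i i' i''} g g' := by
    apply Pi.hom_ext
    rintro ⟨j, f⟩
    rw [embMap_π]
    refine Eq.trans ?_ (Category.assoc _ _ _).symm
    rw [embMap_π, embMap_π, Category.assoc]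

/-- the components of the embedding. -/
noncomputable def embιApp (i : I) : F.obj i ⟶ ∏ᶜ (embFam F i) :=
  Pi.lift (fun p : Σ j : I, (i ⟶ j) => F.map p.2 ≫ Injective.ι (F.obj p.1))

lemma embιApp_π (i j : I) (f : i ⟶ j) :
    embιApp F i ≫ Pi.π (embFam F i) ⟨j, f⟩ = F.map f ≫ Injective.ι (F.obj j) :=
  Pi.lift_π _ _

/-- the embedding `F ⟶ emb F`. -/
noncomputable def embι : F ⟶ emb F where
  app i := embιApp F i
  naturality {i i'} g := by
    apply Pi.hom_ext
    rintro ⟨j, f⟩
    change (F.map g ≫ embιApp F i') ≫ Pi.π _ _ = (embιApp F i ≫ embMap F g) ≫ Pi.π _ _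
    rw [Category.assoc, embιApp_π, Category.assoc, embMap_π, embιApp_π, F.map_comp,
      Category.assoc]

instance (i : I) : Injective ((emb F).obj i) :=
  inferInstanceAs (Injective (∏ᶜ (embFam F i)))

instance (i : I) : Mono ((embι F).app i) := by
  have h : embιApp F i ≫ Pi.π (embFam F i) ⟨i, 𝟙 i⟩ = Injective.ι (F.obj i) := by
    rw [embιApp_π, F.map_id, Category.id_comp]
  exact mono_of_mono_fac h

instance : Mono (embι F) := NatTrans.mono_of_mono_app _

/-- the short complex `F ⟶ emb F ⟶ coker` of diagrams. -/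
noncomputable def embSC : ShortComplex (I ⥤ A) :=
  ShortComplex.mk (embι F) (cokernel.π (embι F)) (cokernel.condition _)

lemma embSC_shortExact : (embSC F).ShortExact where
  exact := ShortComplex.exact_of_g_is_cokernel _ (cokernelIsCokernel _)
  mono_f := inferInstanceAs (Mono (embι F))
  epi_g := inferInstanceAs (Epi (cokernel.π (embι F)))

end Groth.Agent.LD.Colim
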