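import Groth.Agent.Lib.Lead.Cech.SiteCartan
import Mathlib.Algebra.Category.Grp.FilteredColimits
import Mathlib.CategoryTheory.Limits.ConcreteCategory.Basic
import Mathlib.CategoryTheory.Sites.LocallyBijective

/-! # Filtered colimits: helper lemmas. -/

universe u
open CategoryTheory Limits Opposite

namespace Groth.Agent.LD.Colim

section Filtered
variable {I : Type u} [SmallCategory I] [IsFiltered I]

/-- finitely many morphisms out of `i` can be coequalized into a single one. -/
lemma exists_common {κ : Type*} [Finite κ] (i : I) (j : κ → I) (f : ∀ k, i ⟶ j k) :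
    ∃ (m : I) (g : i ⟶ m) (h : ∀ k, j k ⟶ m), ∀ k, f k ≫ h k = g := by
  classical
  haveI := Fintype.ofFinite κ
  let O : Finset I := insert i (Finset.univ.image j)
  have hi : i ∈ O := Finset.mem_insert_self _ _
  have hj : ∀ k, j k ∈ O := fun k =>
    Finset.mem_insert_of_mem (Finset.mem_image_of_mem j (Finset.mem_univ k))
  let H : Finset (Σ' (X Y : I) (_ : X ∈ O) (_ : Y ∈ O), X ⟶ Y) :=
    Finset.univ.image fun k => ⟨i, j k, hi, hj k, f k⟩
  obtain ⟨S, T, hT⟩ := IsFiltered.sup_exists O H
  refine ⟨S, T hi, fun k => T (hj k), fun k => ?_⟩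
  exact hT hi (hj k) (Finset.mem_image_of_mem
    (fun k => (⟨i, j k, hi, hj k, f k⟩ : Σ' (X Y : I) (_ : X ∈ O) (_ : Y ∈ O), X ⟶ Y))
    (Finset.mem_univ k))

/-- finitely many objects have a common upper bound, above a given object. -/
lemma exists_common_obj {κ : Type*} [Finite κ] (j : κ → I) :
    ∃ (m : I), ∀ k, Nonempty (j k ⟶ m) := by
  classical
  haveI := Fintype.ofFinite κ
  obtain ⟨S, hS⟩ := IsFiltered.sup_objs_exists (Finset.univ.image j)
  exact ⟨S, fun k => hS (Finset.mem_image_of_mem j (Finset.mem_univ k))⟩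

variable (D : I ⥤ AddCommGrpCat.{u}) {c : Cocone D} (hc : IsColimit c)

include hc in
lemma ab_exists_rep (x : c.pt) : ∃ (i : I) (y : D.obj i), c.ι.app i y = x :=
  Concrete.isColimit_exists_rep D hc x

include hc in
lemma ab_exists_map_eq_zero {i : I} (y : D.obj i) (h : c.ι.app i y = 0) :
    ∃ (j : I) (g : i ⟶ j), D.map g y = 0 := by
  have h' : c.ι.app i y = c.ι.app i (0 : D.obj i) := by rw [h, map_zero]
  obtain ⟨k, f, g, hfg⟩ := Concrete.isColimit_exists_of_rep_eq D hc y 0 h'
  exact ⟨k, f, by rw [hfg, map_zero]⟩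

end Filtered

end Groth.Agent.LD.Colim
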