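import Groth.Agent.Lib.Lead.Colim.Local

/-! # Sections of a filtered colimit of abelian sheaves over "quasi-compact" objects. -/

universe u
open CategoryTheory Limits Opposite

namespace Groth.Agent.LD.Colim
open Groth.Agent.LD.CH

variable {C : Type u} [SmallCategory C] [HasPullbacks C] {J : GrothendieckTopology C}

/-- a class `B` of objects with a class `Cov` of finite covering families, cofinal among the
coverings of members of `B`, and whose iterated fibre products lie in `B`. -/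
structure Basis (J : GrothendieckTopology C) (B : Set C)
    (Cov : ∀ (U : C) (ι : Type u), (ι → Over U) → Prop) : Prop where
  h1 : ∀ (U : C) (ι : Type u) (Y : ι → Over U), Cov U ι Y → Finite ι ∧ U ∈ B ∧
    Sieve.ofArrows (fun i => (Y i).left) (fun i => (Y i).hom) ∈ J U ∧
    ∀ (p : ℕ) (a : Fin (p + 1) → ι), (∏ᶜ fun k => Y (a k)).left ∈ B
  h2 : ∀ U ∈ B, ∀ T ∈ J U, ∃ (ι : Type u) (Y : ι → Over U), Cov U ι Y ∧
    ∀ i, T.arrows (Y i).hom

/-- a section of a sheaf vanishing on a covering family vanishes. -/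
lemma eq_zero_of_family (G : Sheaf J AddCommGrpCat.{u}) {U : C} {ι : Type u} (Y : ι → Over U)
    (hY : Sieve.ofArrows (fun i => (Y i).left) (fun i => (Y i).hom) ∈ J U)
    (t : G.obj.obj (op U)) (h : ∀ k, G.obj.map (Y k).hom.op t = 0) : t = 0 := by
  have hG : Presieve.IsSheaf J (G.obj ⋙ forget AddCommGrpCat.{u}) :=
    (isSheaf_iff_isSheaf_of_type J _).1
      ((Presheaf.isSheaf_iff_isSheaf_forget J G.obj (forget _)).1 G.property)
  refine (hG _ hY).isSeparatedFor.ext ?_
  intro V f hf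
  obtain ⟨k, g, rfl⟩ := (Sieve.mem_ofArrows_iff _ _ _).mp hf
  change G.obj.map (g ≫ (Y k).hom).op t = G.obj.map (g ≫ (Y k).hom).op 0
  rw [op_comp, G.obj.map_comp, ConcreteCategory.comp_apply, h k, map_zero, map_zero]

/-- if a 0-cochain maps to an augmented section, its differential maps to zero. -/
lemma cmap_d_eq_zero {G H : Sheaf J AddCommGrpCat.{u}} (φ : G ⟶ H) {U : C} {ι : Type u}
    (Y : ι → Over U) (z : (K Y (resOver U G.obj)).X 0) (x : H.obj.obj (op U))
    (hz : (cmap Y φ).f 0 z = augHomO Y H.obj x) :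
    (cmap Y φ).f 1 ((K Y (resOver U G.obj)).d 0 1 z) = 0 := by
  have h1 := ConcreteCategory.congr_hom ((cmap Y φ).comm 0 1) z
  rw [ConcreteCategory.comp_apply, ConcreteCategory.comp_apply] at h1
  rw [← h1, hz, d_augHomO]

/-- the cocone leg as a morphism with explicit target. -/
abbrev leg {I : Type u} [SmallCategory I] {F : I ⥤ Sheaf J AddCommGrpCat.{u}} (c : Cocone F)
    (i : I) : F.obj i ⟶ c.pt := c.ι.app i

variable {B : Set C} {Cov : ∀ (U : C) (ι : Type u), (ι → Over U) → Prop} (hB : Basis J B Cov)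
variable {I : Type u} [SmallCategory I] [IsFiltered I] {F : I ⥤ Sheaf J AddCommGrpCat.{u}}
  {c : Cocone F} (hc : IsColimit c)

include hB hc in
/-- **injectivity**: a section over `U ∈ B` dying in the colimit dies at a later stage. -/
theorem sec_inj {U : C} (hU : U ∈ B) (i : I) (s : (F.obj i).obj.obj (op U))
    (hs : (c.ι.app i).hom.app (op U) s = 0) :
    ∃ (j : I) (g : i ⟶ j), (F.map g).hom.app (op U) s = 0 := by
  obtain ⟨T, hT, h⟩ := locInj_of_isColimit hc U i s hs
  obtain ⟨ι, Y, hCov, hYT⟩ := hB.h2 U hU T hT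
  obtain ⟨hfin, -, hY, -⟩ := hB.h1 U ι Y hCov
  have h' : ∀ k, ∃ (j : I) (g : i ⟶ j),
      (F.map g).hom.app (op (Y k).left) ((F.obj i).obj.map (Y k).hom.op s) = 0 :=
    fun k => h (Y k).hom (hYT k)
  choose j g hg using h'
  obtain ⟨m, g', a, ha⟩ := exists_common i j g
  refine ⟨m, g', ?_⟩
  apply eq_zero_of_family (F.obj m) Y hY
  intro k
  have h1 := NatTrans.naturality_apply (F.map g').hom (Y k).hom.op s
  rw [← h1, ← ha k, F.map_comp]
  change (F.map (a k)).hom.app (op (Y k).left)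
    ((F.map (g k)).hom.app (op (Y k).left) ((F.obj i).obj.map (Y k).hom.op s)) = 0
  rw [hg k, map_zero]

include hB hc in
/-- **surjectivity**: a section of the colimit over `U ∈ B` comes from a stage. -/
theorem sec_surj {U : C} (hU : U ∈ B) (x : c.pt.obj.obj (op U)) :
    ∃ (i : I) (s : (F.obj i).obj.obj (op U)), (c.ι.app i).hom.app (op U) s = x := by
  obtain ⟨T, hT, h⟩ := locSurj_of_isColimit hc U x
  obtain ⟨ι, Y, hCov, hYT⟩ := hB.h2 U hU T hT
  obtain ⟨hfin, -, hY, hprod⟩ := hB.h1 U ι Y hCov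
  have h' : ∀ k, ∃ (i : I) (s : (F.obj i).obj.obj (op (Y k).left)),
      (c.ι.app i).hom.app (op (Y k).left) s = c.pt.obj.map (Y k).hom.op x :=
    fun k => h (Y k).hom (hYT k)
  choose i₀ s₀ hs₀ using h'
  obtain ⟨m, hm⟩ := exists_common_obj i₀
  let a : ∀ k, i₀ k ⟶ m := fun k => (hm k).some
  -- the sections at the common stage `m`
  let s₁ : ∀ k, (F.obj m).obj.obj (op (Y k).left) := fun k =>
    (F.map (a k)).hom.app (op (Y k).left) (s₀ k)
  have hs₁ : ∀ k, (c.ι.app m).hom.app (op (Y k).left) (s₁ k) = c.pt.obj.map (Y k).hom.op x := by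
    intro k
    rw [← hs₀ k, ← c.w (a k)]
    rfl
  -- the 0-cochain
  let z : (K Y (resOver U (F.obj m).obj)).X 0 :=
    (coch Y (resOver U (F.obj m).obj) 0).symm
      (fun b => (F.obj m).obj.map (Pi.π (Y ∘ b) 0).left.op (s₁ (b 0)))
  have hz : (cmap Y (leg c m)).f 0 z = augHomO Y c.pt.obj x := by
    apply coch_ext
    intro b
    have e1 := coch_cmap Y (leg c m) 0 z b
    have e2 : coch Y (resOver U c.pt.obj) 0 (augHomO Y c.pt.obj x) b =
        c.pt.obj.map (∏ᶜ (Y ∘ b)).hom.op x := congrFun (coch_augHomO Y c.pt.obj x) b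
    refine e1.trans (Eq.trans ?_ e2.symm)
    have e3 : coch Y (resOver U (F.obj m).obj) 0 z b =
        (F.obj m).obj.map (Pi.π (Y ∘ b) 0).left.op (s₁ (b 0)) :=
      congrFun ((coch Y (resOver U (F.obj m).obj) 0).apply_symm_apply _) b
    rw [e3]
    have h1 := NatTrans.naturality_apply (leg c m).hom (Pi.π (Y ∘ b) 0).left.op (s₁ (b 0))
    refine h1.trans ?_
    refine (congrArg (fun w => c.pt.obj.map (Pi.π (Y ∘ b) 0).left.op w) (hs₁ (b 0))).trans ?_
    change c.pt.obj.map _ (c.pt.obj.map _ x) = c.pt.obj.map _ x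
    rw [← ConcreteCategory.comp_apply, ← c.pt.obj.map_comp, ← op_comp]
    have hw : (Pi.π (Y ∘ b) 0).left ≫ (Y (b 0)).hom = (∏ᶜ (Y ∘ b)).hom := Over.w _
    rw [hw]
  -- `d z` dies in the colimit
  have hdz := cmap_d_eq_zero (leg c m) Y z x hz
  have hcomp : ∀ b : Fin 2 → ι, ∃ (j : I) (g : m ⟶ j),
      (F.map g).hom.app (op (∏ᶜ (Y ∘ b)).left)
      (coch Y (resOver U (F.obj m).obj) 1 ((K Y (resOver U (F.obj m).obj)).d 0 1 z) b) = 0 := by
    intro b
    apply sec_inj hB hc (hprod 1 b)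
    have e1 := coch_cmap Y (leg c m) 1 ((K Y (resOver U (F.obj m).obj)).d 0 1 z) b
    rw [hdz, map_zero] at e1
    exact e1.symm
  choose j g hg using hcomp
  obtain ⟨n, g', e, he⟩ := exists_common m j g
  -- the cochain at stage `n` is a cocycle
  let z' := (cmap Y (F.map g')).f 0 z
  have hz' : (K Y (resOver U (F.obj n).obj)).d 0 1 z' = 0 := by
    have h1 := ConcreteCategory.congr_hom ((cmap Y (F.map g')).comm 0 1) z
    rw [ConcreteCategory.comp_apply, ConcreteCategory.comp_apply] at h1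
    rw [h1]
    apply coch_ext
    intro b
    rw [coch_cmap, map_zero, ← he b, F.map_comp]
    change (F.map (e b)).hom.app _ ((F.map (g b)).hom.app _ _) = 0
    rw [hg b, map_zero]
  obtain ⟨σ, hσ, -⟩ := existsUnique_of_cocycleO Y (F.obj n) hY z' hz'
  have hσ' : z' = augHomO Y (F.obj n).obj σ := by
    apply (coch Y (resOver U (F.obj n).obj) 0).injective
    rw [coch_augHomO, hσ]
  refine ⟨n, σ, ?_⟩
  apply augHomO_injective Y c.pt hY
  have h2 := map_augHomO Y (leg c n).hom σ
  change (cmap Y (leg c n)).f 0 (augHomO Y (F.obj n).obj σ) = _ at h2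
  change augHomO Y c.pt.obj ((leg c n).hom.app (op U) σ) = _
  rw [← h2, ← hσ', ← hz]
  change (cmap Y (leg c n)).f 0 ((cmap Y (F.map g')).f 0 z) = _
  rw [← ConcreteCategory.comp_apply, ← HomologicalComplex.comp_f]
  have h3 : cmap Y (F.map g') ≫ cmap Y (leg c n) = cmap Y (leg c m) := by
    have hw : F.map g' ≫ leg c n = leg c m := c.w g'
    rw [← hw]
    simp only [cmap]
    rw [← Functor.map_comp, ← Functor.map_comp]
    rfl
  rw [h3]

end Groth.Agent.LD.Colim
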