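import Groth.Agent.Lib.Lead.Colim.Embed
import Mathlib.Algebra.Homology.DerivedCategory.Ext.ExactSequences
import Mathlib.CategoryTheory.Abelian.GrothendieckAxioms.Basic
import Mathlib.CategoryTheory.Filtered.Basic

/-! # Dimension shifting for "Ext commutes with a filtered colimit". -/

universe w v u
open CategoryTheory Limits Abelian

namespace Groth.Agent.LD.Colim

variable {A : Type v} [Category.{u} A] [Abelian A] [HasExt.{w} A]

section PC
variable {Z X Y T : A}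

/-- postcomposition of an Ext class with a morphism. -/
noncomputable def pc (f : X ⟶ Y) {q : ℕ} (x : Ext Z X q) : Ext Z Y q :=
  x.comp (Ext.mk₀ f) (add_zero q)

lemma pc_comp (f : X ⟶ Y) (g : Y ⟶ T) {q : ℕ} (x : Ext Z X q) : pc g (pc f x) = pc (f ≫ g) x := by
  unfold pc
  rw [Ext.comp_assoc_of_third_deg_zero, Ext.mk₀_comp_mk₀]

lemma pc_zero (f : X ⟶ Y) {q : ℕ} : pc f (0 : Ext Z X q) = 0 := by
  unfold pc
  rw [Ext.zero_comp]

lemma pc_sub (f : X ⟶ Y) {q : ℕ} (x y : Ext Z X q) : pc f (x - y) = pc f x - pc f y := by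
  unfold pc
  rw [sub_eq_add_neg, Ext.add_comp, Ext.neg_comp, ← sub_eq_add_neg]

lemma pc_congr {f g : X ⟶ Y} (h : f = g) {q : ℕ} (x : Ext Z X q) : pc f x = pc g x := by
  rw [h]

/-- naturality of the connecting map. -/
lemma pc_extClass {S₁ S₂ : ShortComplex A} (h₁ : S₁.ShortExact) (h₂ : S₂.ShortExact)
    (φ : S₁ ⟶ S₂) {q : ℕ} (x : Ext Z S₁.X₃ q) :
    (pc φ.τ₃ x).comp h₂.extClass rfl = pc φ.τ₁ (x.comp h₁.extClass (rfl : q + 1 = q + 1)) := by
  unfold pc
  rw [Ext.comp_assoc_of_second_deg_zero, ← ShortComplex.ShortExact.extClass_naturality h₁ h₂ φ,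
    Ext.comp_assoc_of_third_deg_zero]

/-- the connecting map kills the image of `g`. -/
lemma pc_g_extClass {S : ShortComplex A} (hS : S.ShortExact) {q : ℕ} (x : Ext Z S.X₂ q) :
    (pc S.g x).comp hS.extClass (rfl : q + 1 = q + 1) = 0 := by
  unfold pc
  rw [Ext.comp_assoc_of_second_deg_zero, hS.comp_extClass, Ext.comp_zero]

end PC

variable {I : Type u} [SmallCategory I] [IsFiltered I] [HasColimitsOfShape I A]
variable (Z : A)

/-- every class in `Ext(Z, colim D)` comes from a stage. -/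
def SurjP (q : ℕ) (D : I ⥤ A) : Prop :=
  ∀ x : Ext Z (colimit D) q, ∃ (i : I) (y : Ext Z (D.obj i) q), pc (colimit.ι D i) y = x

/-- a class at a stage dying in `Ext(Z, colim D)` dies at a later stage. -/
def InjP (q : ℕ) (D : I ⥤ A) : Prop :=
  ∀ (i : I) (y : Ext Z (D.obj i) q), pc (colimit.ι D i) y = 0 →
    ∃ (j : I) (g : i ⟶ j), pc (D.map g) y = 0

variable [HasExactColimitsOfShape I A]

/-- the natural transformation `ev_i ⟶ colim`. -/
noncomputable def colimι (i : I) : (evaluation I A).obj i ⟶ (colim : (I ⥤ A) ⥤ A) where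
  app D := colimit.ι D i
  naturality D D' φ := by
    change φ.app i ≫ colimit.ι D' i = colimit.ι D i ≫ colimMap φ
    rw [ι_colimMap]

variable {Z} (S : ShortComplex (I ⥤ A)) (hS : S.ShortExact)

include hS in
lemma shortExact_eval (i : I) : (S.map ((evaluation I A).obj i)).ShortExact :=
  hS.map_of_exact _

include hS in
lemma shortExact_colim : (S.map (colim : (I ⥤ A) ⥤ A)).ShortExact := by
  haveI : PreservesFiniteLimits (colim : (I ⥤ A) ⥤ A) :=
    HasExactColimitsOfShape.preservesFiniteLimits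
  exact hS.map_of_exact _

include hS in
theorem shift_surj (q : ℕ)
    (h2 : Subsingleton (Ext Z (colimit S.X₂) (q + 1)))
    (hQ : SurjP Z q S.X₃) : SurjP Z (q + 1) S.X₁ := by
  intro x
  have hSc := shortExact_colim S hS
  have hx0 : x.comp (Ext.mk₀ (S.map (colim : (I ⥤ A) ⥤ A)).f) (add_zero (q + 1)) = 0 :=
    h2.elim _ _
  obtain ⟨x₃, hx₃⟩ := Ext.covariant_sequence_exact₁ Z hSc x hx0 (rfl : q + 1 = q + 1)
  obtain ⟨i, y₃, hy₃⟩ := hQ x₃
  have hSi := shortExact_eval S hS i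
  refine ⟨i, y₃.comp hSi.extClass rfl, ?_⟩
  have hnat := pc_extClass hSi hSc (S.mapNatTrans (colimι i)) y₃
  change (pc (colimit.ι S.X₃ i) y₃).comp hSc.extClass rfl =
    pc (colimit.ι S.X₁ i) (y₃.comp hSi.extClass rfl) at hnat
  rw [← hnat, hy₃]
  exact hx₃

include hS in
theorem shift_inj (q : ℕ)
    (h1 : ∀ i, Subsingleton (Ext Z (S.X₂.obj i) (q + 1)))
    (hG : SurjP Z q S.X₂) (hQ : InjP Z q S.X₃) : InjP Z (q + 1) S.X₁ := by
  intro i y hy
  have hSc := shortExact_colim S hS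
  have hSi := shortExact_eval S hS i
  have hy0 : y.comp (Ext.mk₀ (S.map ((evaluation I A).obj i)).f) (add_zero (q + 1)) = 0 :=
    (h1 i).elim _ _
  obtain ⟨y₃, hy₃⟩ := Ext.covariant_sequence_exact₁ Z hSi y hy0 (rfl : q + 1 = q + 1)
  have hnat := pc_extClass hSi hSc (S.mapNatTrans (colimι i)) y₃
  change (pc (colimit.ι S.X₃ i) y₃).comp hSc.extClass rfl =
    pc (colimit.ι S.X₁ i) (y₃.comp hSi.extClass rfl) at hnat
  rw [hy₃, hy] at hnat
  obtain ⟨x₂, hx₂⟩ := Ext.covariant_sequence_exact₃ Z hSc (pc (colimit.ι S.X₃ i) y₃) rfl hnat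
  change pc (colimMap S.g) x₂ = pc (colimit.ι S.X₃ i) y₃ at hx₂
  obtain ⟨j, z, hz⟩ := hG x₂
  let k := IsFiltered.max i j
  let a : i ⟶ k := IsFiltered.leftToMax i j
  let b : j ⟶ k := IsFiltered.rightToMax i j
  let w : Ext Z (S.X₃.obj k) q := pc (S.X₃.map a) y₃ - pc (S.g.app k) (pc (S.X₂.map b) z)
  have hw : pc (colimit.ι S.X₃ k) w = 0 := by
    rw [pc_sub, pc_comp, pc_comp, pc_comp, sub_eq_zero, colimit.w, ← hx₂, ← hz, pc_comp]
    apply pc_congr
    have e1 : S.g.app k ≫ colimit.ι S.X₃ k = colimit.ι S.X₂ k ≫ colimMap S.g :=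
      (ι_colimMap S.g k).symm
    rw [e1, ← Category.assoc, colimit.w]
  obtain ⟨m, g, hg⟩ := hQ k w hw
  refine ⟨m, a ≫ g, ?_⟩
  have hSm := shortExact_eval S hS m
  have hnat2 := pc_extClass hSi hSm (S.mapNatTrans ((evaluation I A).map (a ≫ g))) y₃
  change (pc (S.X₃.map (a ≫ g)) y₃).comp hSm.extClass rfl =
    pc (S.X₁.map (a ≫ g)) (y₃.comp hSi.extClass rfl) at hnat2
  rw [hy₃] at hnat2
  rw [← hnat2]
  have e2 : pc (S.X₃.map (a ≫ g)) y₃ = pc (S.g.app m) (pc (S.X₂.map (b ≫ g)) z) := by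
    have e3 : pc (S.X₃.map g) w = 0 := hg
    rw [pc_sub, sub_eq_zero, pc_comp, pc_comp, pc_comp, ← S.X₃.map_comp] at e3
    rw [e3, pc_comp]
    apply pc_congr
    rw [S.X₂.map_comp, Category.assoc, S.g.naturality g]
  rw [e2]
  exact pc_g_extClass hSm _

end Groth.Agent.LD.Colim
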